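import Cfsg.Agent.Screen.CosetEnum.Fi23Sylow.Basic

/-!
# The products form a subgroup of order 2^18
-/

set_option autoImplicit false
set_option maxRecDepth 100000

namespace Cfsg.Agent.Screen.CosetEnum.Fi23Sylow

open Cfsg.Agent.Screen.CosetEnum

theorem mulI_lt {a b : ℕ} (ha : a < 128) (hb : b < 128) : mulI a b < 128 := by
  have h := List.all_eq_true.1 (List.all_eq_true.1 mul_check a (List.mem_range.2 ha)) b (List.mem_range.2 hb)
  rw [Bool.and_eq_true, Nat.blt_eq] at h
  exact h.1

theorem mulI_assoc_gen {a b k : ℕ} (ha : a < 128) (hb : b < 128) (hk : k < 3) :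
    mulI (mulI (genIdx k) a) b = mulI (genIdx k) (mulI a b) := by
  have h := List.all_eq_true.1 (List.all_eq_true.1 mul_check a (List.mem_range.2 ha)) b (List.mem_range.2 hb)
  rw [Bool.and_eq_true] at h
  exact Nat.eq_of_beq_eq_true (List.all_eq_true.1 h.2 k (List.mem_range.2 hk))

theorem mulI_zero {b : ℕ} (hb : b < 128) : mulI 0 b = b ∧ mulI b 0 = b := by
  have h := List.all_eq_true.1 one_check b (List.mem_range.2 hb)
  rw [Bool.and_eq_true] at h
  exact ⟨Nat.eq_of_beq_eq_true h.1, Nat.eq_of_beq_eq_true h.2⟩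

theorem genIdx_lt {k : ℕ} (hk : k < 3) :
    genIdx k < 128 ∧ genInv k < 128 ∧ mulI (genIdx k) (genInv k) = 0 := by
  have h := List.all_eq_true.1 inv_check k (List.mem_range.2 hk)
  simp only [Bool.and_eq_true, Nat.blt_eq] at h
  exact ⟨h.1.1, h.1.2, Nat.eq_of_beq_eq_true h.2⟩

theorem mtI_lt {a : ℕ} (ha : a < 128) {l : ℕ} (hl : l < 11) : mtI a l < 2048 := by
  have h := List.all_eq_true.1 mt_check l (List.mem_range.2 hl)
  rw [Bool.and_eq_true] at h
  rcases Nat.eq_zero_or_pos a with rfl | hpos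
  · rw [Nat.eq_of_beq_eq_true h.1]
    calc 2 ^ l ≤ 2 ^ 10 := Nat.pow_le_pow_right (by norm_num) (by omega)
      _ < 2048 := by norm_num
  · obtain ⟨j, rfl⟩ : ∃ j, a = j + 1 := ⟨a - 1, by omega⟩
    have h2 := List.all_eq_true.1 h.2 j (List.mem_range.2 (by omega))
    rw [Bool.and_eq_true, Nat.blt_eq] at h2
    exact h2.1

theorem actV_lt {a : ℕ} (ha : a < 128) (v : ℕ) : actV a v < 2048 :=
  linGo_lt _ _ _ _ fun _ _ hl => mtI_lt ha (by omega)

theorem swap_vel {a v : ℕ} (ha : a < 128) (hv : v < 2048) : rpe a * vel v = vel (actV a v) * rpe a := by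
  rw [← act_conj a ha v hv, inv_mul_cancel_right]

theorem rpe_mul : ∀ a < 128, ∀ b < 128, ∃ r < 2048, rpe a * rpe b = vel r * rpe (mulI a b) := by
  intro a
  induction a using Nat.strong_induction_on with
  | _ a ih =>
    intro ha b hb
    rcases Nat.eq_zero_or_pos a with rfl | hpos
    · exact ⟨0, by norm_num, by rw [rpe_zero, vel_zero, (mulI_zero hb).1]⟩
    · obtain ⟨j, rfl⟩ : ∃ j, a = j + 1 := ⟨a - 1, by omega⟩
      obtain ⟨k, c, hk, hc, hmul, -, -⟩ := par_spec (by omega : j < 127)
      obtain ⟨hrel, hr⟩ := rel_eq hk (show c < 128 by omega)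
      rw [hmul] at hrel
      obtain ⟨x, hx, hxe⟩ := ih c hc (by omega) b hb
      obtain ⟨hg, -, -⟩ := genIdx_lt hk
      obtain ⟨hrel2, hr2⟩ := rel_eq hk (mulI_lt (show c < 128 by omega) hb)
      refine ⟨relI k c ^^^ (actV (genIdx k) x ^^^ relI k (mulI c b)),
        xor_lt hr (xor_lt (actV_lt hg x) hr2), ?_⟩
      calc rpe (j + 1) * rpe b = (vel (relI k c))⁻¹ * (rpe (genIdx k) * rpe c) * rpe b := by
            rw [hrel, inv_mul_cancel_left]
        _ = vel (relI k c) * (rpe (genIdx k) * (rpe c * rpe b)) := by rw [vel_inv]; simp only [mul_assoc]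
        _ = vel (relI k c) * (rpe (genIdx k) * vel x * rpe (mulI c b)) := by rw [hxe, mul_assoc]
        _ = vel (relI k c) * (vel (actV (genIdx k) x) * (rpe (genIdx k) * rpe (mulI c b))) := by
            rw [swap_vel hg hx, mul_assoc]
        _ = _ := by
            rw [hrel2, ← hmul, mulI_assoc_gen (show c < 128 by omega) hb hk, vel_xor, vel_xor]
            simp only [mul_assoc]

theorem mul_prod {u v a b : ℕ} (hu : u < 2048) (hv : v < 2048) (ha : a < 128) (hb : b < 128) :
    ∃ w < 2048, vel u * rpe a * (vel v * rpe b) = vel w * rpe (mulI a b) := by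
  obtain ⟨r, hr, he⟩ := rpe_mul a ha b hb
  refine ⟨u ^^^ (actV a v ^^^ r), xor_lt hu (xor_lt (actV_lt ha v) hr), ?_⟩
  calc vel u * rpe a * (vel v * rpe b) = vel u * (rpe a * vel v * rpe b) := by simp only [mul_assoc]
    _ = vel u * (vel (actV a v) * (rpe a * rpe b)) := by rw [swap_vel ha hv, mul_assoc]
    _ = _ := by rw [he, vel_xor, vel_xor]; simp only [mul_assoc]

theorem one_mem_prods : (1 : Cfsg.Spor.Fi23) ∈ prods :=
  ⟨0, 0, by norm_num, by norm_num, by rw [vel_zero, rpe_zero, one_mul]⟩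

theorem mul_mem_prods {g h : Cfsg.Spor.Fi23} (hg : g ∈ prods) (hh : h ∈ prods) : g * h ∈ prods := by
  obtain ⟨u, a, hu, ha, rfl⟩ := hg
  obtain ⟨v, b, hv, hb, rfl⟩ := hh
  obtain ⟨w, hw, he⟩ := mul_prod hu hv ha hb
  exact ⟨w, _, hw, mulI_lt ha hb, he⟩

/-- The products, as a subgroup. -/
noncomputable def syl : Subgroup Cfsg.Spor.Fi23 where
  carrier := prods
  mul_mem' := mul_mem_prods
  one_mem' := one_mem_prods
  inv_mem' := by
    intro g hg
    have hpow : ∀ n : ℕ, g ^ n ∈ prods := by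
      intro n
      induction n with
      | zero => rw [pow_zero]; exact one_mem_prods
      | succ n ih => rw [pow_succ]; exact mul_mem_prods ih hg
    have h1 : g⁻¹ = g ^ (orderOf g - 1) := by
      refine inv_eq_of_mul_eq_one_right ?_
      rw [← pow_succ', Nat.sub_add_cancel (orderOf_pos g), pow_orderOf_eq_one]
    rw [h1]
    exact hpow _

theorem mem_syl {g : Cfsg.Spor.Fi23} : g ∈ syl ↔ ∃ v a, v < 2048 ∧ a < 128 ∧ g = vel v * rpe a := Iff.rfl

theorem vel_mem {v : ℕ} (hv : v < 2048) : vel v ∈ syl :=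
  ⟨v, 0, hv, by norm_num, by rw [rpe_zero, mul_one]⟩

theorem rpe_mem {a : ℕ} (ha : a < 128) : rpe a ∈ syl :=
  ⟨0, a, by norm_num, ha, by rw [vel_zero, one_mul]⟩

theorem vel_eq_one {v : ℕ} (hv : v < 2048) (h : vel v = 1) : v = 0 := by
  by_contra h0
  obtain ⟨q, hq, hmv⟩ := vec_check v hv h0
  have hall : (vwd bws v).all (fun x => Nat.blt x 10) = true := by
    have h2 : ∀ bs : List (List ℕ), (∀ b ∈ bs, ∀ x ∈ b, x < 10) → ∀ n, ∀ x ∈ vwd bs n, x < 10 := by
      intro bs
      induction bs with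
      | nil => intro _ n x hx; simp [vwd] at hx
      | cons b bs ih =>
        intro hb n x hx
        rw [vwd, List.mem_append] at hx
        rcases hx with hx | hx
        · cases hh : Nat.beq (n % 2) 1 <;> rw [hh] at hx
          · simp at hx
          · exact hb b List.mem_cons_self x hx
        · exact ih (fun c hc => hb c (List.mem_cons_of_mem _ hc)) _ x hx
    have hc := clique_check
    rw [Bool.and_eq_true] at hc
    have hc2 := of_decide_eq_true hc.2
    rw [Bool.and_eq_true] at hc2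
    refine List.all_eq_true.2 fun x hx => ?_
    rw [Nat.blt_eq]
    exact h2 bws (fun b hb y hy => by
      simpa [Nat.blt_eq] using List.all_eq_true.1 (List.all_eq_true.1 hc2.1 b hb) y hy) v x hx
  exact Fi23Ord.ne_one_of_moves hall q hq hmv h

theorem vel_inj {u v : ℕ} (hu : u < 2048) (hv : v < 2048) (h : vel u = vel v) : u = v := by
  have h1 : vel (u ^^^ v) = 1 := by rw [vel_xor, h, vel_sq]
  exact Nat.xor_eq_zero_iff.1 (vel_eq_one (xor_lt hu hv) h1)

theorem clique_act {v a : ℕ} (ha : a < 128) {i : ℕ} (hi : i < 23) (hq : clique.getD i 0 < Fi23Fi22.tbl.n) :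
    ((Fi23Ord.act (vel v * rpe a) ⟨clique.getD i 0, hq⟩ : Fin Fi23Fi22.tbl.n) : ℕ) = clique.getD (clI a i) 0 := by
  have hc := clique_check
  rw [Bool.and_eq_true] at hc
  have hc2 := of_decide_eq_true hc.2
  rw [Bool.and_eq_true] at hc2
  have hsw : (swd a).all (fun x => Nat.blt x 10) = true := List.all_eq_true.1 hc2.2 a (List.mem_range.2 ha)
  rw [map_mul, Equiv.Perm.mul_apply]
  have hcl := Nat.eq_of_beq_eq_true (List.all_eq_true.1 (List.all_eq_true.1 cl_check a (List.mem_range.2 ha)) i (List.mem_range.2 hi))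
  have hr : ((Fi23Ord.act (rpe a) ⟨clique.getD i 0, hq⟩ : Fin Fi23Fi22.tbl.n) : ℕ) = clique.getD (clI a i) 0 := by
    rw [rpe, Fi23Ord.act_word _ hsw]
    exact hcl
  set p := Fi23Ord.act (rpe a) ⟨clique.getD i 0, hq⟩ with hp
  have hmem : (p : ℕ) ∈ clique := by
    rw [hr]
    have hlt : clI a i < clique.length :=
      of_decide_eq_true (List.all_eq_true.1 (List.all_eq_true.1
        (show ((List.range 128).all fun a => (List.range 23).all fun i => decide (clI a i < clique.length)) = true by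
          decide +kernel) a (List.mem_range.2 ha)) i (List.mem_range.2 hi))
    rw [List.getD_eq_getElem _ _ hlt]
    exact List.getElem_mem _
  have hfix : Fi23Ord.act (vel v) p = p := by
    have hb : ∀ bs : List (List ℕ), bs ⊆ bws → ∀ n,
        Fi23Ord.act (evalW PresFi23.gens (vwd bs n)) p = p := by
      intro bs
      induction bs with
      | nil => intro _ n; simp [vwd, evalW]
      | cons b bs ih =>
        intro hsub n
        rw [evalW_vwd_cons, map_mul, Equiv.Perm.mul_apply]
        have hb1 : Fi23Ord.act (if n % 2 = 1 then evalW PresFi23.gens b else 1) p = p := by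
          split
          · refine Fin.ext ?_
            rw [Fi23Ord.act_word b (List.all_eq_true.1 hc2.1 b (hsub List.mem_cons_self))]
            exact Nat.eq_of_beq_eq_true (List.all_eq_true.1 (List.all_eq_true.1 fix_check b (hsub List.mem_cons_self)) _ hmem)
          · rw [map_one, Equiv.Perm.one_apply]
        rw [hb1]
        exact ih (fun x hx => hsub (List.mem_cons_of_mem _ hx)) _
    exact hb bws (List.Subset.refl _) v
  rw [hfix, hr]

theorem prod_inj {u v a b : ℕ} (hu : u < 2048) (hv : v < 2048) (ha : a < 128) (hb : b < 128)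
    (h : vel u * rpe a = vel v * rpe b) : u = v ∧ a = b := by
  have hab : a = b := by
    by_contra hne
    have hs := List.all_eq_true.1 (List.all_eq_true.1 sep_check a (List.mem_range.2 ha)) b (List.mem_range.2 hb)
    rw [Bool.or_eq_true] at hs
    rcases hs with hs | hs
    · exact hne (Nat.eq_of_beq_eq_true hs)
    · obtain ⟨i, hi, hne'⟩ := List.any_eq_true.1 hs
      have hi' := List.mem_range.1 hi
      have hc := clique_check
      rw [Bool.and_eq_true] at hc
      have hlt : clique.getD i 0 < Fi23Fi22.tbl.n := by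
        have hl : i < clique.length := by simpa [clique] using hi'
        rw [List.getD_eq_getElem _ _ hl]
        simpa [Nat.blt_eq] using List.all_eq_true.1 hc.1 _ (List.getElem_mem hl)
      have e1 := clique_act (v := u) ha hi' hlt
      rw [h, clique_act (v := v) hb hi' hlt] at e1
      rw [e1] at hne'
      simp at hne'
  subst hab
  exact ⟨vel_inj hu hv (mul_right_cancel h), rfl⟩

theorem card_syl : Nat.card syl = 262144 := by
  let φ : Fin 2048 × Fin 128 → syl := fun p => ⟨vel p.1 * rpe p.2, ⟨p.1, p.2, p.1.isLt, p.2.isLt, rfl⟩⟩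
  have hφ : Function.Bijective φ := by
    refine ⟨fun p q h => ?_, fun g => ?_⟩
    · obtain ⟨h1, h2⟩ := prod_inj p.1.isLt q.1.isLt p.2.isLt q.2.isLt (congrArg Subtype.val h)
      exact Prod.ext (Fin.ext h1) (Fin.ext h2)
    · obtain ⟨v, a, hv, ha, he⟩ := g.2
      exact ⟨(⟨v, hv⟩, ⟨a, ha⟩), Subtype.ext he.symm⟩
  rw [← Nat.card_eq_of_bijective φ hφ, Nat.card_prod, Nat.card_fin, Nat.card_fin]

end Cfsg.Agent.Screen.CosetEnum.Fi23Sylow
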