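import Cfsg.Prelude.Def_Transfer
import Cfsg.Agent.Screen.CosetEnum.Fi23Sylow.Group

/-!
# Normal elementary abelian subgroups of a Sylow 2-subgroup of Fi23
-/

set_option autoImplicit false
set_option maxRecDepth 100000

namespace Cfsg.Agent.Screen.CosetEnum.Fi23Sylow

open Cfsg.Agent.Screen.CosetEnum

theorem mem_members {W x : ℕ} : x ∈ members W ↔ x < 128 ∧ bit W x = true := by
  simp [members, List.mem_filter, List.mem_range]

theorem members_nodup (W : ℕ) : (members W).Nodup := List.nodup_range.filter _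

theorem bit_extend (W x y : ℕ) :
    bit (extend W x) y = true ↔ bit W y = true ∨ ∃ w ∈ members W, mulI x w = y := by
  have h : ∀ (l : List ℕ) (s : ℕ), bit (l.foldl (fun s w => addBit s (mulI x w)) s) y = true ↔
      bit s y = true ∨ ∃ w ∈ l, mulI x w = y := by
    intro l
    induction l with
    | nil => intro s; simp
    | cons a l ih =>
      intro s
      rw [List.foldl_cons, ih, bit_addBit, Bool.or_eq_true, decide_eq_true_iff]
      simp only [List.mem_cons, exists_eq_or_imp, or_assoc]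
  exact h _ _

/-- The coordinates occurring in a subgroup. -/
def InIdx (A : Subgroup Cfsg.Spor.Fi23) (x : ℕ) : Prop := ∃ v, v < 2048 ∧ vel v * rpe x ∈ A

theorem fixCount_eq (mem : List ℕ) : ∀ k, fixCount mem k =
    ((Finset.range k).filter fun v => mem.all (fun w => Nat.beq (actV w v) v) = true).card := by
  intro k
  induction k with
  | zero => simp [fixCount]
  | succ k ih =>
    rw [fixCount, Finset.range_add_one, Finset.filter_insert, ih]
    cases h : mem.all (fun w => Nat.beq (actV w k) k) <;> simp [h]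

theorem bound {A : Subgroup Cfsg.Spor.Fi23} (hle : A ≤ syl)
    (hnorm : ∀ s ∈ syl, ∀ a ∈ A, s * a * s⁻¹ ∈ A)
    (hcomm : ∀ a ∈ A, ∀ b ∈ A, a * b = b * a) (hsq : ∀ a ∈ A, a ^ 2 = 1) :
    (∀ g ∈ A, ∃ v, v < 2048 ∧ g = vel v) ∨ Nat.card A < 2048 := by
  classical
  set V := InIdx A with hV
  have hV0 : V 0 := ⟨0, by norm_num, by rw [vel_zero, rpe_zero, one_mul]; exact one_mem _⟩
  have hVsq : ∀ x < 128, V x → mulI x x = 0 := by
    rintro x hx ⟨v, hv, hm⟩
    obtain ⟨w, hw, he⟩ := mul_prod hv hv hx hx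
    have h1 := hsq _ hm
    rw [pow_two, he] at h1
    exact (prod_inj hw (by norm_num) (mulI_lt hx hx) (by norm_num)
      (h1.trans (by rw [vel_zero, rpe_zero, one_mul] : (1 : Cfsg.Spor.Fi23) = vel 0 * rpe 0))).2
  have hVmul : ∀ x < 128, ∀ y < 128, V x → V y → V (mulI x y) := by
    rintro x hx y hy ⟨u, hu, hum⟩ ⟨v, hv, hvm⟩
    obtain ⟨w, hw, he⟩ := mul_prod hu hv hx hy
    exact ⟨w, hw, he ▸ mul_mem hum hvm⟩
  have hVcomm : ∀ x < 128, ∀ y < 128, V x → V y → mulI x y = mulI y x := by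
    rintro x hx y hy ⟨u, hu, hum⟩ ⟨v, hv, hvm⟩
    obtain ⟨w, hw, he⟩ := mul_prod hu hv hx hy
    obtain ⟨w', hw', he'⟩ := mul_prod hv hu hy hx
    exact (prod_inj hw hw' (mulI_lt hx hy) (mulI_lt hy hx) (he.symm.trans ((hcomm _ hum _ hvm).trans he'))).2
  have hsub := subgroups_closed
  rw [Bool.and_eq_true] at hsub
  obtain ⟨h1mem, hclosed⟩ := hsub
  set S : Finset ℕ := subgroups.toFinset.filter fun W => ∀ x ∈ members W, V x with hS
  have hne : S.Nonempty := by
    obtain ⟨W, hW, hW1⟩ := List.any_eq_true.1 h1mem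
    obtain rfl := Nat.eq_of_beq_eq_true hW1
    refine ⟨1, Finset.mem_filter.2 ⟨List.mem_toFinset.2 hW, fun x hx => ?_⟩⟩
    rw [mem_members, bit_eq, show (1 : ℕ) = 2 ^ 0 from rfl, Nat.testBit_two_pow, decide_eq_true_iff] at hx
    exact hx.2 ▸ hV0
  obtain ⟨W, hW, hmax⟩ := S.exists_max_image (fun W => (members W).toFinset.card) hne
  obtain ⟨hWs, hWV⟩ := Finset.mem_filter.1 hW
  rw [List.mem_toFinset] at hWs
  have hWc := List.all_eq_true.1 hclosed W hWs
  simp only [Bool.and_eq_true, Nat.blt_eq] at hWc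
  have hW0 : bit W 0 = true := hWc.1.1
  have hfull : ∀ x < 128, V x → bit W x = true := by
    intro x hx hVx
    by_contra hbit
    rw [Bool.not_eq_true] at hbit
    have h := List.all_eq_true.1 hWc.2 x (List.mem_range.2 hx)
    simp only [Bool.or_eq_true, Bool.not_eq_true', hbit, Bool.false_eq_true, false_or] at h
    rcases h with (h | h) | h
    · rw [hVsq x hx hVx] at h; exact Bool.noConfusion h
    · have : (members W).all (fun w => Nat.beq (mulI x w) (mulI w x)) = true := List.all_eq_true.2 fun w hw => by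
        rw [hVcomm x hx w (mem_members.1 hw).1 hVx (hWV w hw)]
        simp
      rw [this] at h; exact Bool.noConfusion h
    · obtain ⟨U, hU, hUe⟩ := List.any_eq_true.1 h
      obtain rfl := Nat.eq_of_beq_eq_true hUe
      have hUS : extend W x ∈ S := Finset.mem_filter.2 ⟨List.mem_toFinset.2 hU, fun y hy => by
        rcases (bit_extend W x y).1 (mem_members.1 hy).2 with hy' | ⟨w, hw, rfl⟩
        · exact hWV y (mem_members.2 ⟨(mem_members.1 hy).1, hy'⟩)
        · exact hVmul x hx w (mem_members.1 hw).1 hVx (hWV w hw)⟩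
      have hlt : (members W).toFinset.card < (members (extend W x)).toFinset.card := by
        refine Finset.card_lt_card ((Finset.ssubset_iff_of_subset fun y hy => ?_).2 ⟨x, ?_, ?_⟩)
        · rw [List.mem_toFinset, mem_members] at hy ⊢
          exact ⟨hy.1, (bit_extend W x y).2 (Or.inl hy.2)⟩
        · rw [List.mem_toFinset, mem_members]
          exact ⟨hx, (bit_extend W x x).2 (Or.inr ⟨0, mem_members.2 ⟨by norm_num, hW0⟩, (mulI_zero hx).2⟩)⟩
        · rw [List.mem_toFinset, mem_members]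
          rintro ⟨-, h'⟩
          rw [hbit] at h'
          exact Bool.noConfusion h'
      exact absurd (hmax _ hUS) (not_le.2 hlt)
  by_cases hW1 : W = 1
  · left
    intro g hg
    obtain ⟨v, a, hv, ha, rfl⟩ := hle hg
    have hb := hfull a ha ⟨v, hv, hg⟩
    rw [hW1, bit_eq, show (1 : ℕ) = 2 ^ 0 from rfl, Nat.testBit_two_pow, decide_eq_true_iff] at hb
    subst hb
    exact ⟨v, hv, by rw [rpe_zero, mul_one]⟩
  right
  have hnormal : normalSet W = true := by
    refine List.all_eq_true.2 fun k hk => List.all_eq_true.2 fun w hw => ?_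
    rw [List.mem_range] at hk
    obtain ⟨hg, hgi, hginv⟩ := genIdx_lt hk
    obtain ⟨hw', -⟩ := mem_members.1 hw
    obtain ⟨v, hv, hvm⟩ := hWV w hw
    obtain ⟨r, hr, hre⟩ := rpe_mul _ hg _ hgi
    rw [hginv, rpe_zero, mul_one] at hre
    have hi : (rpe (genIdx k))⁻¹ = rpe (genInv k) * vel r := by
      refine inv_eq_of_mul_eq_one_right ?_
      rw [← mul_assoc, hre, vel_sq]
    obtain ⟨p, hp, hpe⟩ := mul_prod (u := 0) (by norm_num) hv hg hw'
    rw [vel_zero, one_mul] at hpe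
    obtain ⟨q, hq, hqe⟩ := mul_prod hp (v := 0) (by norm_num) (mulI_lt hg hw') hgi
    rw [vel_zero, one_mul] at hqe
    have hm := hnorm _ (rpe_mem hg) _ hvm
    rw [hi, hpe, ← mul_assoc, hqe, mul_assoc, swap_vel (mulI_lt (mulI_lt hg hw') hgi) hr, ← mul_assoc, ← vel_xor] at hm
    exact hfull _ (mulI_lt (mulI_lt hg hw') hgi) ⟨_, xor_lt hq (actV_lt (mulI_lt (mulI_lt hg hw') hgi) r), hm⟩
  have hb := List.all_eq_true.1 subgroups_bound W hWs
  simp only [Bool.or_eq_true, hnormal, Bool.not_true, Bool.false_eq_true, or_false, Nat.blt_eq] at hb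
  rcases hb with hb | hb
  · exact absurd (Nat.eq_of_beq_eq_true hb) hW1
  refine lt_of_le_of_lt ?_ hb
  set F : Finset ℕ := (Finset.range 2048).filter
    fun v => (members W).all (fun w => Nat.beq (actV w v) v) = true with hF
  rw [fixCount_eq, ← List.toFinset_card_of_nodup (members_nodup W), ← hF]
  have hfix : ∀ v < 2048, vel v ∈ A → v ∈ F := by
    intro v hv hvA
    refine Finset.mem_filter.2 ⟨Finset.mem_range.2 hv, List.all_eq_true.2 fun x hx => ?_⟩
    obtain ⟨hx', -⟩ := mem_members.1 hx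
    obtain ⟨u, hu, hum⟩ := hWV x hx
    have h := hcomm _ hum _ hvA
    rw [mul_assoc, swap_vel hx' hv, ← mul_assoc, ← mul_assoc, ← vel_xor, ← vel_xor] at h
    have h2 := (prod_inj (xor_lt hu (actV_lt hx' v)) (xor_lt hv hu) hx' hx' h).1
    rw [Nat.xor_comm v u, Nat.xor_right_inj] at h2
    simp [h2]
  haveI : Finite A := inferInstance
  choose! u hu humem using fun x (hx : x ∈ (members W).toFinset) => hWV x (List.mem_toFinset.1 hx)
  have hdec : ∀ g : A, ∃ v x, v < 2048 ∧ x < 128 ∧ (g : Cfsg.Spor.Fi23) = vel v * rpe x := fun g => hle g.2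
  choose cv cx hcv hcx hce using hdec
  have hcW : ∀ g : A, cx g ∈ (members W).toFinset := fun g =>
    List.mem_toFinset.2 (mem_members.2 ⟨hcx g, hfull _ (hcx g) ⟨cv g, hcv g, hce g ▸ g.2⟩⟩)
  have hcF : ∀ g : A, cv g ^^^ u (cx g) ∈ F := fun g => by
    refine hfix _ (xor_lt (hcv g) (hu _ (hcW g))) ?_
    have hm := mul_mem g.2 (inv_mem (humem _ (hcW g)))
    rw [hce g, mul_inv_rev, ← mul_assoc, mul_inv_cancel_right, vel_inv, ← vel_xor] at hm
    exact hm
  let φ : A → ↥(members W).toFinset × ↥F := fun g => (⟨cx g, hcW g⟩, ⟨cv g ^^^ u (cx g), hcF g⟩)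
  have hφ : Function.Injective φ := by
    intro g g' h
    have hx : cx g = cx g' := congrArg Subtype.val (congrArg Prod.fst h)
    have hv : cv g ^^^ u (cx g) = cv g' ^^^ u (cx g') := congrArg Subtype.val (congrArg Prod.snd h)
    rw [hx, Nat.xor_left_inj] at hv
    exact Subtype.ext (by rw [hce g, hce g', hx, hv])
  have h3 := Nat.card_le_card_of_injective φ hφ
  rwa [Nat.card_prod, Nat.card_eq_finsetCard, Nat.card_eq_finsetCard] at h3

/-- The elementary abelian subgroup of order 2^11. -/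
noncomputable def elem : Subgroup Cfsg.Spor.Fi23 where
  carrier := {g | ∃ v, v < 2048 ∧ g = vel v}
  mul_mem' := by rintro _ _ ⟨u, hu, rfl⟩ ⟨v, hv, rfl⟩; exact ⟨u ^^^ v, xor_lt hu hv, (vel_xor u v).symm⟩
  one_mem' := ⟨0, by norm_num, vel_zero.symm⟩
  inv_mem' := by rintro _ ⟨u, hu, rfl⟩; exact ⟨u, hu, vel_inv u⟩

theorem card_elem : Nat.card elem = 2048 := by
  let φ : Fin 2048 → elem := fun v => ⟨vel v, ⟨v, v.isLt, rfl⟩⟩
  have hφ : Function.Bijective φ :=
    ⟨fun p q h => Fin.ext (vel_inj p.isLt q.isLt (congrArg Subtype.val h)),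
      fun g => by obtain ⟨v, hv, he⟩ := g.2; exact ⟨⟨v, hv⟩, Subtype.ext he.symm⟩⟩
  rw [← Nat.card_eq_of_bijective φ hφ, Nat.card_fin]

theorem elem_le : elem ≤ syl := by rintro _ ⟨v, hv, rfl⟩; exact vel_mem hv

theorem elem_normal : ∀ s ∈ syl, ∀ a ∈ elem, s * a * s⁻¹ ∈ elem := by
  rintro _ ⟨w, b, hw, hb, rfl⟩ _ ⟨v, hv, rfl⟩
  refine ⟨actV b v, actV_lt hb v, ?_⟩
  calc vel w * rpe b * vel v * (vel w * rpe b)⁻¹ = vel w * (rpe b * vel v * (rpe b)⁻¹) * (vel w)⁻¹ := by group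
    _ = vel (actV b v) := by rw [act_conj b hb v hv, vel_comm, mul_inv_cancel_right]

theorem syl_result : (∀ A : Subgroup Cfsg.Spor.Fi23, A ≤ syl → (∀ s ∈ syl, ∀ a ∈ A, s * a * s⁻¹ ∈ A) →
      Cfsg.IsElementaryAbelian 2 A → Nat.card A ≤ 2 ^ 11 ∧ (Nat.card A = 2 ^ 11 → A = elem)) := by
  intro A hle hnorm ⟨hc, hs⟩
  rcases bound hle hnorm (fun a ha b hb => by
      haveI := hc
      exact congrArg Subtype.val (mul_comm' (⟨a, ha⟩ : A) ⟨b, hb⟩)) hs with h | h
  · have hsub : A ≤ elem := fun g hg => h g hg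
    refine ⟨(Subgroup.card_le_of_le hsub).trans (le_of_eq (card_elem.trans (by norm_num))), fun hcard => ?_⟩
    exact Subgroup.eq_of_le_of_card_ge hsub (by rw [hcard, card_elem]; norm_num)
  · exact ⟨h.le.trans (by norm_num), fun hcard => absurd hcard (by rw [show (2 : ℕ) ^ 11 = 2048 from rfl]; omega)⟩

theorem elem_elementary : Cfsg.IsElementaryAbelian 2 elem := by
  refine ⟨⟨⟨fun a b => Subtype.ext ?_⟩⟩, fun a ha => ?_⟩
  · obtain ⟨u, hu, hu'⟩ := a.2
    obtain ⟨v, hv, hv'⟩ := b.2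
    change (a : Cfsg.Spor.Fi23) * b = b * a
    rw [hu', hv', vel_comm]
  · obtain ⟨v, hv, rfl⟩ := ha
    rw [pow_two, vel_sq]

theorem exists_conj (T : Sylow 2 Cfsg.Spor.Fi23) :
    ∃ g : Cfsg.Spor.Fi23, (T : Subgroup Cfsg.Spor.Fi23) = syl.map (MulAut.conj g).toMonoidHom := by
  haveI : Fact (Nat.Prime 2) := ⟨Nat.prime_two⟩
  have hp : IsPGroup 2 syl := IsPGroup.of_card (n := 18) (by rw [card_syl]; norm_num)
  obtain ⟨P, hP⟩ := hp.exists_le_sylow
  have hPe : (P : Subgroup Cfsg.Spor.Fi23) = syl := by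
    refine (Subgroup.eq_of_le_of_card_ge hP ?_).symm
    obtain ⟨n, hn⟩ := P.isPGroup'.exists_card_eq
    rw [card_syl, hn]
    have hdvd := Subgroup.card_subgroup_dvd_card (P : Subgroup Cfsg.Spor.Fi23)
    rw [hn, Fi23Ord.card_eq] at hdvd
    by_contra hlt
    have h19 : 2 ^ 19 ∣ 4089470473293004800 := by
      refine dvd_trans (Nat.pow_dvd_pow 2 ?_) hdvd
      by_contra hn'
      have : 2 ^ n ≤ 2 ^ 18 := Nat.pow_le_pow_right (by norm_num) (by omega)
      norm_num at this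
      omega
    norm_num at h19
  obtain ⟨g, hg⟩ := MulAction.exists_smul_eq Cfsg.Spor.Fi23 P T
  refine ⟨g, ?_⟩
  rw [← hg, ← hPe]
  rfl

theorem conj_conj (g : Cfsg.Spor.Fi23) (A : Subgroup Cfsg.Spor.Fi23) :
    (A.map (MulAut.conj g⁻¹).toMonoidHom).map (MulAut.conj g).toMonoidHom = A := by
  ext x
  simp only [Subgroup.mem_map, MulEquiv.coe_toMonoidHom, MulAut.conj_apply, exists_exists_and_eq_and]
  constructor
  · rintro ⟨a, ha, rfl⟩
    simpa [mul_assoc] using ha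
  · intro hx
    exact ⟨x, hx, by group⟩

theorem pull_props {g : Cfsg.Spor.Fi23} {A : Subgroup Cfsg.Spor.Fi23}
    (hle : A ≤ syl.map (MulAut.conj g).toMonoidHom) (hn : (A.subgroupOf (syl.map (MulAut.conj g).toMonoidHom)).Normal)
    (he : Cfsg.IsElementaryAbelian 2 A) :
    A.map (MulAut.conj g⁻¹).toMonoidHom ≤ syl ∧
      (∀ s ∈ syl, ∀ a ∈ A.map (MulAut.conj g⁻¹).toMonoidHom, s * a * s⁻¹ ∈ A.map (MulAut.conj g⁻¹).toMonoidHom) ∧
      Cfsg.IsElementaryAbelian 2 (A.map (MulAut.conj g⁻¹).toMonoidHom : Subgroup Cfsg.Spor.Fi23) := by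
  refine ⟨?_, ?_, ⟨⟨⟨?_⟩⟩, ?_⟩⟩
  · rintro _ ⟨a, ha, rfl⟩
    obtain ⟨s, hs, rfl⟩ := hle ha
    simpa [mul_assoc] using hs
  · rintro s hs _ ⟨a, ha, rfl⟩
    have h := hn.conj_mem ⟨a, hle ha⟩ (Subgroup.mem_subgroupOf.2 ha)
      ⟨g * s * g⁻¹, Subgroup.mem_map.2 ⟨s, hs, rfl⟩⟩
    refine Subgroup.mem_map.2 ⟨g * s * g⁻¹ * a * (g * s * g⁻¹)⁻¹, Subgroup.mem_subgroupOf.1 h, ?_⟩
    simp only [MulEquiv.coe_toMonoidHom, MulAut.conj_apply]
    group
  · rintro ⟨x, a, ha, rfl⟩ ⟨y, b, hb, rfl⟩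
    apply Subtype.ext
    haveI := he.1
    have hab : a * b = b * a := congrArg Subtype.val (mul_comm' (⟨a, ha⟩ : A) ⟨b, hb⟩)
    change MulAut.conj g⁻¹ a * MulAut.conj g⁻¹ b = MulAut.conj g⁻¹ b * MulAut.conj g⁻¹ a
    rw [← map_mul, ← map_mul, hab]
  · rintro _ ⟨a, ha, rfl⟩
    rw [← map_pow, he.2 a ha, map_one]

theorem result (T : Sylow 2 Cfsg.Spor.Fi23) :
    (∀ A : Subgroup Cfsg.Spor.Fi23, A ≤ T → (A.subgroupOf T).Normal → Cfsg.IsElementaryAbelian 2 A →
        Nat.card A ≤ 2 ^ 11) ∧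
    ∃! A : Subgroup Cfsg.Spor.Fi23, A ≤ T ∧ (A.subgroupOf T).Normal ∧ Cfsg.IsElementaryAbelian 2 A ∧
        Nat.card A = 2 ^ 11 := by
  obtain ⟨g, hT⟩ := exists_conj T
  rw [hT]
  have hcard : ∀ A : Subgroup Cfsg.Spor.Fi23, Nat.card (A.map (MulAut.conj g⁻¹).toMonoidHom) = Nat.card A :=
    fun A => Subgroup.card_map_of_injective (MulAut.conj g⁻¹).injective
  refine ⟨fun A hA hn he => ?_, elem.map (MulAut.conj g).toMonoidHom, ⟨Subgroup.map_mono elem_le, ?_, ⟨⟨⟨?_⟩⟩, ?_⟩, ?_⟩, ?_⟩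
  · obtain ⟨h1, h2, h3⟩ := pull_props hA hn he
    exact hcard A ▸ (syl_result _ h1 h2 h3).1
  · refine ⟨fun a ha s => ?_⟩
    rw [Subgroup.mem_subgroupOf] at ha ⊢
    obtain ⟨a', ha', hae⟩ := Subgroup.mem_map.1 ha
    obtain ⟨s', hs', hse⟩ := Subgroup.mem_map.1 s.2
    refine Subgroup.mem_map.2 ⟨s' * a' * s'⁻¹, elem_normal s' hs' a' ha', ?_⟩
    rw [map_mul, map_mul, map_inv, hae, hse]
    rfl
  · rintro ⟨x, a, ha, rfl⟩ ⟨y, b, hb, rfl⟩
    apply Subtype.ext
    haveI := elem_elementary.1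
    have hab : a * b = b * a := congrArg Subtype.val (mul_comm' (⟨a, ha⟩ : elem) ⟨b, hb⟩)
    change MulAut.conj g a * MulAut.conj g b = MulAut.conj g b * MulAut.conj g a
    rw [← map_mul, ← map_mul, hab]
  · rintro _ ⟨a, ha, rfl⟩
    rw [← map_pow, elem_elementary.2 a ha, map_one]
  · rw [Subgroup.card_map_of_injective (MulAut.conj g).injective, card_elem]
    norm_num
  · rintro A ⟨hA, hn, he, hc⟩
    obtain ⟨h1, h2, h3⟩ := pull_props hA hn he
    rw [← (syl_result _ h1 h2 h3).2 ((hcard A).trans hc), conj_conj]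

end Cfsg.Agent.Screen.CosetEnum.Fi23Sylow
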