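import Cfsg.Agent.Screen.CosetEnum.Fi23Sylow.Model

/-!
# The long checks
-/

set_option autoImplicit false
set_option maxRecDepth 100000
set_option Elab.async false

namespace Cfsg.Agent.Screen.CosetEnum.Fi23Sylow

open Cfsg.Agent.Screen.CosetEnum

theorem rel_check0 : ((List.range 16).all fun a => (List.range 3).all fun k =>
    trivW (swd (0 + a) ++ swd (genIdx k) ++ (swd (mulI (genIdx k) (0 + a)) ++ vwd bws (relI k (0 + a))).reverse) &&
      Nat.blt (relI k (0 + a)) 2048) = true := by decide +kernel

theorem rel_check1 : ((List.range 16).all fun a => (List.range 3).all fun k =>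
    trivW (swd (16 + a) ++ swd (genIdx k) ++ (swd (mulI (genIdx k) (16 + a)) ++ vwd bws (relI k (16 + a))).reverse) &&
      Nat.blt (relI k (16 + a)) 2048) = true := by decide +kernel

theorem rel_check2 : ((List.range 16).all fun a => (List.range 3).all fun k =>
    trivW (swd (32 + a) ++ swd (genIdx k) ++ (swd (mulI (genIdx k) (32 + a)) ++ vwd bws (relI k (32 + a))).reverse) &&
      Nat.blt (relI k (32 + a)) 2048) = true := by decide +kernel

theorem rel_check3 : ((List.range 16).all fun a => (List.range 3).all fun k =>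
    trivW (swd (48 + a) ++ swd (genIdx k) ++ (swd (mulI (genIdx k) (48 + a)) ++ vwd bws (relI k (48 + a))).reverse) &&
      Nat.blt (relI k (48 + a)) 2048) = true := by decide +kernel

theorem rel_check4 : ((List.range 16).all fun a => (List.range 3).all fun k =>
    trivW (swd (64 + a) ++ swd (genIdx k) ++ (swd (mulI (genIdx k) (64 + a)) ++ vwd bws (relI k (64 + a))).reverse) &&
      Nat.blt (relI k (64 + a)) 2048) = true := by decide +kernel

theorem rel_check5 : ((List.range 16).all fun a => (List.range 3).all fun k =>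
    trivW (swd (80 + a) ++ swd (genIdx k) ++ (swd (mulI (genIdx k) (80 + a)) ++ vwd bws (relI k (80 + a))).reverse) &&
      Nat.blt (relI k (80 + a)) 2048) = true := by decide +kernel

theorem rel_check6 : ((List.range 16).all fun a => (List.range 3).all fun k =>
    trivW (swd (96 + a) ++ swd (genIdx k) ++ (swd (mulI (genIdx k) (96 + a)) ++ vwd bws (relI k (96 + a))).reverse) &&
      Nat.blt (relI k (96 + a)) 2048) = true := by decide +kernel

theorem rel_check7 : ((List.range 16).all fun a => (List.range 3).all fun k =>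
    trivW (swd (112 + a) ++ swd (genIdx k) ++ (swd (mulI (genIdx k) (112 + a)) ++ vwd bws (relI k (112 + a))).reverse) &&
      Nat.blt (relI k (112 + a)) 2048) = true := by decide +kernel

theorem rel_check : ∀ a < 128, ∀ k < 3,
    trivW (swd a ++ swd (genIdx k) ++ (swd (mulI (genIdx k) a) ++ vwd bws (relI k a)).reverse) = true ∧
      relI k a < 2048 := by
  intro a ha k hk
  obtain ⟨q, r, hr, rfl⟩ : ∃ q r, r < 16 ∧ a = 16 * q + r := ⟨a / 16, a % 16, by omega, (Nat.div_add_mod a 16).symm⟩
  have hq : q < 8 := by omega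
  obtain rfl | rfl | rfl | rfl | rfl | rfl | rfl | rfl : q = 0 ∨ q = 1 ∨ q = 2 ∨ q = 3 ∨ q = 4 ∨ q = 5 ∨ q = 6 ∨ q = 7 := by
    omega
  · have h := List.all_eq_true.1 (List.all_eq_true.1 rel_check0 r (List.mem_range.2 hr)) k (List.mem_range.2 hk)
    rw [Bool.and_eq_true, Nat.blt_eq] at h
    exact h
  · have h := List.all_eq_true.1 (List.all_eq_true.1 rel_check1 r (List.mem_range.2 hr)) k (List.mem_range.2 hk)
    rw [Bool.and_eq_true, Nat.blt_eq] at h
    exact h
  · have h := List.all_eq_true.1 (List.all_eq_true.1 rel_check2 r (List.mem_range.2 hr)) k (List.mem_range.2 hk)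
    rw [Bool.and_eq_true, Nat.blt_eq] at h
    exact h
  · have h := List.all_eq_true.1 (List.all_eq_true.1 rel_check3 r (List.mem_range.2 hr)) k (List.mem_range.2 hk)
    rw [Bool.and_eq_true, Nat.blt_eq] at h
    exact h
  · have h := List.all_eq_true.1 (List.all_eq_true.1 rel_check4 r (List.mem_range.2 hr)) k (List.mem_range.2 hk)
    rw [Bool.and_eq_true, Nat.blt_eq] at h
    exact h
  · have h := List.all_eq_true.1 (List.all_eq_true.1 rel_check5 r (List.mem_range.2 hr)) k (List.mem_range.2 hk)
    rw [Bool.and_eq_true, Nat.blt_eq] at h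
    exact h
  · have h := List.all_eq_true.1 (List.all_eq_true.1 rel_check6 r (List.mem_range.2 hr)) k (List.mem_range.2 hk)
    rw [Bool.and_eq_true, Nat.blt_eq] at h
    exact h
  · have h := List.all_eq_true.1 (List.all_eq_true.1 rel_check7 r (List.mem_range.2 hr)) k (List.mem_range.2 hk)
    rw [Bool.and_eq_true, Nat.blt_eq] at h
    exact h

end Cfsg.Agent.Screen.CosetEnum.Fi23Sylow
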