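import Cfsg.Agent.Screen.CosetEnum.Fi23Sylow.Model

/-!
# The long checks
-/

set_option autoImplicit false
set_option maxRecDepth 100000
set_option Elab.async false

namespace Cfsg.Agent.Screen.CosetEnum.Fi23Sylow

open Cfsg.Agent.Screen.CosetEnum

theorem vec_check0 : ((List.range 256).all fun v => Nat.beq (0 + v) 0 ||
    testPts.any fun q => Nat.blt q Fi23Fi22.tbl.n && !Nat.beq (Fi23Fi22.tbl.app (vwd bws (0 + v)) q) q) = true := by
  decide +kernel

theorem vec_check1 : ((List.range 256).all fun v => Nat.beq (256 + v) 0 ||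
    testPts.any fun q => Nat.blt q Fi23Fi22.tbl.n && !Nat.beq (Fi23Fi22.tbl.app (vwd bws (256 + v)) q) q) = true := by
  decide +kernel

theorem vec_check2 : ((List.range 256).all fun v => Nat.beq (512 + v) 0 ||
    testPts.any fun q => Nat.blt q Fi23Fi22.tbl.n && !Nat.beq (Fi23Fi22.tbl.app (vwd bws (512 + v)) q) q) = true := by
  decide +kernel

theorem vec_check3 : ((List.range 256).all fun v => Nat.beq (768 + v) 0 ||
    testPts.any fun q => Nat.blt q Fi23Fi22.tbl.n && !Nat.beq (Fi23Fi22.tbl.app (vwd bws (768 + v)) q) q) = true := by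
  decide +kernel

theorem vec_check4 : ((List.range 256).all fun v => Nat.beq (1024 + v) 0 ||
    testPts.any fun q => Nat.blt q Fi23Fi22.tbl.n && !Nat.beq (Fi23Fi22.tbl.app (vwd bws (1024 + v)) q) q) = true := by
  decide +kernel

theorem vec_check5 : ((List.range 256).all fun v => Nat.beq (1280 + v) 0 ||
    testPts.any fun q => Nat.blt q Fi23Fi22.tbl.n && !Nat.beq (Fi23Fi22.tbl.app (vwd bws (1280 + v)) q) q) = true := by
  decide +kernel

theorem vec_check6 : ((List.range 256).all fun v => Nat.beq (1536 + v) 0 ||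
    testPts.any fun q => Nat.blt q Fi23Fi22.tbl.n && !Nat.beq (Fi23Fi22.tbl.app (vwd bws (1536 + v)) q) q) = true := by
  decide +kernel

theorem vec_check7 : ((List.range 256).all fun v => Nat.beq (1792 + v) 0 ||
    testPts.any fun q => Nat.blt q Fi23Fi22.tbl.n && !Nat.beq (Fi23Fi22.tbl.app (vwd bws (1792 + v)) q) q) = true := by
  decide +kernel

theorem vec_check : ∀ v < 2048, v ≠ 0 →
    ∃ q, q < Fi23Fi22.tbl.n ∧ Nat.beq (Fi23Fi22.tbl.app (vwd bws v) q) q = false := by
  intro v hv hv0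
  obtain ⟨p, r, hr, rfl⟩ : ∃ p r, r < 256 ∧ v = 256 * p + r := ⟨v / 256, v % 256, by omega, (Nat.div_add_mod v 256).symm⟩
  have hp : p < 8 := by omega
  obtain rfl | rfl | rfl | rfl | rfl | rfl | rfl | rfl : p = 0 ∨ p = 1 ∨ p = 2 ∨ p = 3 ∨ p = 4 ∨ p = 5 ∨ p = 6 ∨ p = 7 := by
    omega
  · have h := List.all_eq_true.1 vec_check0 r (List.mem_range.2 hr)
    rw [Bool.or_eq_true, List.any_eq_true] at h
    obtain h | ⟨q, -, hq⟩ := h
    · exact absurd (Nat.eq_of_beq_eq_true h) hv0
    · simp only [Bool.and_eq_true, Nat.blt_eq, Bool.not_eq_true'] at hq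
      exact ⟨q, hq.1, hq.2⟩
  · have h := List.all_eq_true.1 vec_check1 r (List.mem_range.2 hr)
    rw [Bool.or_eq_true, List.any_eq_true] at h
    obtain h | ⟨q, -, hq⟩ := h
    · exact absurd (Nat.eq_of_beq_eq_true h) hv0
    · simp only [Bool.and_eq_true, Nat.blt_eq, Bool.not_eq_true'] at hq
      exact ⟨q, hq.1, hq.2⟩
  · have h := List.all_eq_true.1 vec_check2 r (List.mem_range.2 hr)
    rw [Bool.or_eq_true, List.any_eq_true] at h
    obtain h | ⟨q, -, hq⟩ := h
    · exact absurd (Nat.eq_of_beq_eq_true h) hv0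
    · simp only [Bool.and_eq_true, Nat.blt_eq, Bool.not_eq_true'] at hq
      exact ⟨q, hq.1, hq.2⟩
  · have h := List.all_eq_true.1 vec_check3 r (List.mem_range.2 hr)
    rw [Bool.or_eq_true, List.any_eq_true] at h
    obtain h | ⟨q, -, hq⟩ := h
    · exact absurd (Nat.eq_of_beq_eq_true h) hv0
    · simp only [Bool.and_eq_true, Nat.blt_eq, Bool.not_eq_true'] at hq
      exact ⟨q, hq.1, hq.2⟩
  · have h := List.all_eq_true.1 vec_check4 r (List.mem_range.2 hr)
    rw [Bool.or_eq_true, List.any_eq_true] at h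
    obtain h | ⟨q, -, hq⟩ := h
    · exact absurd (Nat.eq_of_beq_eq_true h) hv0
    · simp only [Bool.and_eq_true, Nat.blt_eq, Bool.not_eq_true'] at hq
      exact ⟨q, hq.1, hq.2⟩
  · have h := List.all_eq_true.1 vec_check5 r (List.mem_range.2 hr)
    rw [Bool.or_eq_true, List.any_eq_true] at h
    obtain h | ⟨q, -, hq⟩ := h
    · exact absurd (Nat.eq_of_beq_eq_true h) hv0
    · simp only [Bool.and_eq_true, Nat.blt_eq, Bool.not_eq_true'] at hq
      exact ⟨q, hq.1, hq.2⟩
  · have h := List.all_eq_true.1 vec_check6 r (List.mem_range.2 hr)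
    rw [Bool.or_eq_true, List.any_eq_true] at h
    obtain h | ⟨q, -, hq⟩ := h
    · exact absurd (Nat.eq_of_beq_eq_true h) hv0
    · simp only [Bool.and_eq_true, Nat.blt_eq, Bool.not_eq_true'] at hq
      exact ⟨q, hq.1, hq.2⟩
  · have h := List.all_eq_true.1 vec_check7 r (List.mem_range.2 hr)
    rw [Bool.or_eq_true, List.any_eq_true] at h
    obtain h | ⟨q, -, hq⟩ := h
    · exact absurd (Nat.eq_of_beq_eq_true h) hv0
    · simp only [Bool.and_eq_true, Nat.blt_eq, Bool.not_eq_true'] at hq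
      exact ⟨q, hq.1, hq.2⟩

end Cfsg.Agent.Screen.CosetEnum.Fi23Sylow
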