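import Cfsg.Agent.Screen.CosetEnum.Fi23Sylow.Model
import Cfsg.Agent.Screen.CosetEnum.Fi23Sylow.RelCheck
import Cfsg.Agent.Screen.CosetEnum.Fi23Sylow.VecCheck

/-!
# The subgroup of order 2^18
-/

set_option autoImplicit false
set_option maxRecDepth 100000

namespace Cfsg.Agent.Screen.CosetEnum.Fi23Sylow

open Cfsg.Agent.Screen.CosetEnum

/-- The element of a vector. -/
noncomputable def vel (v : ℕ) : Cfsg.Spor.Fi23 := evalW PresFi23.gens (vwd bws v)

/-- The representative of a coset. -/
noncomputable def rpe (a : ℕ) : Cfsg.Spor.Fi23 := evalW PresFi23.gens (swd a)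

/-- All products. -/
def prods : Set Cfsg.Spor.Fi23 := {g | ∃ v a, v < 2048 ∧ a < 128 ∧ g = vel v * rpe a}

theorem evalW_vwd_cons (b : List ℕ) (bs : List (List ℕ)) (v : ℕ) :
    evalW PresFi23.gens (vwd (b :: bs) v) =
      evalW PresFi23.gens (vwd bs (v / 2)) * (if v % 2 = 1 then evalW PresFi23.gens b else 1) := by
  rw [vwd, evalW_append]
  congr 1
  rcases Nat.mod_two_eq_zero_or_one v with h | h <;> rw [h] <;> rfl

theorem bws_comm {b c : List ℕ} (hb : b ∈ bws) (hc : c ∈ bws) :
    Commute (evalW PresFi23.gens b) (evalW PresFi23.gens c) := by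
  have h := bws_check
  rw [Bool.and_eq_true] at h
  have h2 := trivW_spec (List.all_eq_true.1 (List.all_eq_true.1 h.1 b hb) c hc)
  simp only [evalW_append, evalW_reverse PresFi23.gens_sq] at h2
  have h4 : (evalW PresFi23.gens c)⁻¹ * (evalW PresFi23.gens b)⁻¹ * evalW PresFi23.gens c * evalW PresFi23.gens b = 1 := by
    rw [← h2]; group
  change _ = _
  calc evalW PresFi23.gens b * evalW PresFi23.gens c
      = evalW PresFi23.gens b * evalW PresFi23.gens c *
        ((evalW PresFi23.gens c)⁻¹ * (evalW PresFi23.gens b)⁻¹ * evalW PresFi23.gens c * evalW PresFi23.gens b) := by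
        rw [h4, mul_one]
    _ = _ := by group

theorem bws_sq {b : List ℕ} (hb : b ∈ bws) : evalW PresFi23.gens b * evalW PresFi23.gens b = 1 := by
  have h := bws_check
  rw [Bool.and_eq_true] at h
  rw [← evalW_append]
  exact trivW_spec (List.all_eq_true.1 (of_decide_eq_true h.2) b hb)

theorem comm_vwd {b : List ℕ} (hb : b ∈ bws) :
    ∀ bs : List (List ℕ), bs ⊆ bws → ∀ v, Commute (evalW PresFi23.gens b) (evalW PresFi23.gens (vwd bs v))
  | [], _, v => by simp [vwd, evalW]
  | c :: bs, h, v => by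
    rw [evalW_vwd_cons]
    refine Commute.mul_right (comm_vwd hb bs (fun x hx => h (List.mem_cons_of_mem _ hx)) _) ?_
    split
    · exact bws_comm hb (h List.mem_cons_self)
    · exact Commute.one_right _

theorem vwd_xor : ∀ bs : List (List ℕ), bs ⊆ bws → ∀ u v, evalW PresFi23.gens (vwd bs (u ^^^ v)) =
    evalW PresFi23.gens (vwd bs u) * evalW PresFi23.gens (vwd bs v)
  | [], _, u, v => by simp [vwd, evalW]
  | c :: bs, h, u, v => by
    have hsub : bs ⊆ bws := fun x hx => h (List.mem_cons_of_mem _ hx)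
    have hc : c ∈ bws := h List.mem_cons_self
    have hdiv : (u ^^^ v) / 2 = u / 2 ^^^ v / 2 := by
      apply Nat.eq_of_testBit_eq
      intro i
      simp [Nat.testBit_div_two, Nat.testBit_xor]
    rw [evalW_vwd_cons, evalW_vwd_cons, evalW_vwd_cons, hdiv, vwd_xor bs hsub]
    have hcv := comm_vwd hc bs hsub (v / 2)
    have hsq := bws_sq hc
    rcases Nat.mod_two_eq_zero_or_one u with hu | hu <;> rcases Nat.mod_two_eq_zero_or_one v with hv | hv
    · have : (u ^^^ v) % 2 = 0 := by
        rcases Nat.mod_two_eq_zero_or_one (u ^^^ v) with h' | h'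
        · exact h'
        · rw [Nat.xor_mod_two_eq_one] at h'; omega
      simp only [this, hu, hv, zero_ne_one, if_false, mul_one]
    · have : (u ^^^ v) % 2 = 1 := by rw [Nat.xor_mod_two_eq_one]; omega
      simp only [this, hu, hv, zero_ne_one, if_false, if_true, mul_one, mul_assoc]
    · have : (u ^^^ v) % 2 = 1 := by rw [Nat.xor_mod_two_eq_one]; omega
      simp only [this, hu, hv, zero_ne_one, if_false, if_true, mul_one, mul_assoc]
      rw [hcv.eq]
    · have : (u ^^^ v) % 2 = 0 := by
        rcases Nat.mod_two_eq_zero_or_one (u ^^^ v) with h' | h'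
        · exact h'
        · rw [Nat.xor_mod_two_eq_one] at h'; omega
      simp only [this, hu, hv, zero_ne_one, if_false, if_true, mul_one, mul_assoc]
      congr 1
      rw [← mul_assoc, hcv.eq, mul_assoc, hsq, mul_one]

theorem vel_xor (u v : ℕ) : vel (u ^^^ v) = vel u * vel v := vwd_xor bws (List.Subset.refl _) u v

theorem vel_zero : vel 0 = 1 := by
  have h := vel_xor 0 0
  rw [Nat.xor_self] at h
  exact left_eq_mul.1 h

theorem vel_sq (v : ℕ) : vel v * vel v = 1 := by rw [← vel_xor, Nat.xor_self, vel_zero]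

theorem vel_comm (u v : ℕ) : vel u * vel v = vel v * vel u := by rw [← vel_xor, ← vel_xor, Nat.xor_comm]

theorem vel_inv (v : ℕ) : (vel v)⁻¹ = vel v := inv_eq_of_mul_eq_one_right (vel_sq v)

theorem xor_lt {u v : ℕ} (hu : u < 2048) (hv : v < 2048) : u ^^^ v < 2048 :=
  Nat.xor_lt_two_pow (n := 11) hu hv

theorem linGo_lt (f : ℕ → ℕ) : ∀ k l v, (∀ i, l ≤ i → i < l + k → f i < 2048) → linGo f k l v < 2048
  | 0, _, _, _ => by simp [linGo]
  | k + 1, l, v, h => by
    rw [linGo]
    refine xor_lt ?_ (linGo_lt f k (l + 1) (v / 2) fun i h1 h2 => h i (by omega) (by omega))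
    cases Nat.beq (v % 2) 1
    · simp
    · exact h l le_rfl (by omega)

theorem conj_vwd (g : Cfsg.Spor.Fi23) (f : ℕ → ℕ) : ∀ (bs : List (List ℕ)) (l v : ℕ),
    (∀ i (hi : i < bs.length), g * evalW PresFi23.gens bs[i] * g⁻¹ = vel (f (l + i))) →
      g * evalW PresFi23.gens (vwd bs v) * g⁻¹ = vel (linGo f bs.length l v)
  | [], _, _, _ => by simp [vwd, evalW, linGo, vel_zero]
  | b :: bs, l, v, h => by
    have h2 := conj_vwd g f bs (l + 1) (v / 2) fun i hi => by
      have := h (i + 1) (by simpa using hi)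
      rwa [List.getElem_cons_succ, show l + (i + 1) = l + 1 + i by omega] at this
    have h0 : g * evalW PresFi23.gens b * g⁻¹ = vel (f l) := h 0 (by simp)
    rw [evalW_vwd_cons, List.length_cons, linGo]
    change _ = vel ((bif Nat.beq (v % 2) 1 then f l else 0) ^^^ linGo f bs.length (l + 1) (v / 2))
    rw [vel_xor, vel_comm, show ∀ p q : Cfsg.Spor.Fi23, g * (p * q) * g⁻¹ = g * p * g⁻¹ * (g * q * g⁻¹) from
      fun p q => by group, h2]
    congr 1
    rcases Nat.mod_two_eq_zero_or_one v with hv | hv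
    · rw [hv]; show g * 1 * g⁻¹ = vel 0; rw [vel_zero, mul_one, mul_inv_cancel]
    · rw [hv]; exact h0

theorem mgI_conj {k : ℕ} (hk : k < 3) (v : ℕ) :
    rpe (genIdx k) * vel v * (rpe (genIdx k))⁻¹ = vel (linGo (mgI k) 11 0 v) := by
  have h := conj_vwd (rpe (genIdx k)) (mgI k) bws 0 v fun i hi => by
    have hc := List.all_eq_true.1 (List.all_eq_true.1 conj_check k (List.mem_range.2 hk)) i
      (List.mem_range.2 (by rwa [bws_length] at hi))
    rw [Bool.and_eq_true] at hc
    have h2 := trivW_spec hc.1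
    rw [List.getD_eq_getElem _ _ hi] at h2
    simp only [evalW_append, evalW_reverse PresFi23.gens_sq] at h2
    rw [Nat.zero_add]
    change rpe (genIdx k) * _ * (rpe (genIdx k))⁻¹ = vel (mgI k i)
    exact inv_mul_eq_one.1 (by rw [← h2]; simp only [rpe, vel, mul_assoc]) |>.symm
  rwa [bws_length] at h

theorem rel_eq {k a : ℕ} (hk : k < 3) (ha : a < 128) :
    rpe (genIdx k) * rpe a = vel (relI k a) * rpe (mulI (genIdx k) a) ∧ relI k a < 2048 := by
  have hc := rel_check a ha k hk
  refine ⟨?_, hc.2⟩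
  have h := trivW_spec hc.1
  simp only [evalW_append, evalW_reverse PresFi23.gens_sq] at h
  exact (eq_inv_of_mul_eq_one_right h).trans (inv_inv _)

theorem par_spec {j : ℕ} (hj : j < 127) : ∃ k a, k < 3 ∧ a < j + 1 ∧ mulI (genIdx k) a = j + 1 ∧
    k = field parTab (2 * (j + 1)) ∧ a = field parTab (2 * (j + 1) + 1) := by
  have h := par_check
  rw [Bool.and_eq_true] at h
  have h2 := List.all_eq_true.1 h.2 j (List.mem_range.2 hj)
  simp only [Bool.and_eq_true, Nat.blt_eq] at h2
  exact ⟨_, _, h2.1.1, h2.1.2, Nat.eq_of_beq_eq_true h2.2, rfl, rfl⟩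

theorem rpe_zero : rpe 0 = 1 := by
  have h := par_check
  rw [Bool.and_eq_true] at h
  rw [rpe, beq_iff_eq.1 h.1]
  rfl

theorem act_conj : ∀ a < 128, ∀ v, v < 2048 → rpe a * vel v * (rpe a)⁻¹ = vel (actV a v) := by
  suffices h : ∀ a < 128, ∀ i < 11, rpe a * evalW PresFi23.gens (bws.getD i []) * (rpe a)⁻¹ = vel (mtI a i) by
    intro a ha v _
    have := conj_vwd (rpe a) (mtI a) bws 0 v fun i hi => by
      rw [Nat.zero_add, ← List.getD_eq_getElem _ [] hi]
      exact h a ha i (bws_length ▸ hi)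
    rwa [bws_length] at this
  intro a
  induction a using Nat.strong_induction_on with
  | _ a ih =>
    intro ha i hi
    have hm := List.all_eq_true.1 mt_check i (List.mem_range.2 hi)
    rw [Bool.and_eq_true] at hm
    rcases Nat.eq_zero_or_pos a with rfl | hpos
    · rw [rpe_zero, one_mul, inv_one, mul_one, Nat.eq_of_beq_eq_true hm.1]
      have hb : ((List.range 11).all fun i => vwd bws (2 ^ i) == bws.getD i []) = true := by decide +kernel
      rw [vel, beq_iff_eq.1 (List.all_eq_true.1 hb i (List.mem_range.2 hi))]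
    · obtain ⟨j, rfl⟩ : ∃ j, a = j + 1 := ⟨a - 1, by omega⟩
      obtain ⟨k, b, hk, hb, hmul, hke, hbe⟩ := par_spec (by omega : j < 127)
      obtain ⟨hrel, -⟩ := rel_eq hk (show b < 128 by omega)
      rw [hmul] at hrel
      have hs : rpe (j + 1) = (vel (relI k b))⁻¹ * (rpe (genIdx k) * rpe b) := by
        rw [hrel, inv_mul_cancel_left]
      have h2 := List.all_eq_true.1 hm.2 j (List.mem_range.2 (by omega))
      rw [Bool.and_eq_true, ← hke, ← hbe] at h2
      rw [Nat.eq_of_beq_eq_true h2.2, hs]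
      calc (vel (relI k b))⁻¹ * (rpe (genIdx k) * rpe b) * evalW PresFi23.gens (bws.getD i []) *
            ((vel (relI k b))⁻¹ * (rpe (genIdx k) * rpe b))⁻¹
          = (vel (relI k b))⁻¹ * (rpe (genIdx k) * (rpe b * evalW PresFi23.gens (bws.getD i []) * (rpe b)⁻¹) *
            (rpe (genIdx k))⁻¹) * vel (relI k b) := by group
        _ = _ := by
          rw [ih b hb (by omega) i hi, mgI_conj hk, mul_assoc, vel_comm (linGo (mgI k) 11 0 (mtI b i)),
            inv_mul_cancel_left]

end Cfsg.Agent.Screen.CosetEnum.Fi23Sylow
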