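import Cfsg.Agent.Screen.CosetEnum.Fi23Ord.Class
import Cfsg.Agent.Screen.CosetEnum.Fi23Sylow.Data

/-!
# Checks for a Sylow 2-subgroup of Fi23
-/

set_option autoImplicit false
set_option maxRecDepth 100000
set_option Elab.async false

namespace Cfsg.Agent.Screen.CosetEnum.Fi23Sylow

open Cfsg.Agent.Screen.CosetEnum

/-- Decode a word. -/
def dec : ℕ → ℕ → List ℕ
  | 0, _ => []
  | k + 1, c => Nat.land c 15 :: dec k (c / 16)

/-- A representative word. -/
def swd (a : ℕ) : List ℕ := dec (swCode.getD a (0, 0)).1 (swCode.getD a (0, 0)).2

/-- The basis words. -/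
def bws : List (List ℕ) := bwCode.map fun p => dec p.1 p.2

/-- The word of a vector. -/
def vwd : List (List ℕ) → ℕ → List ℕ
  | [], _ => []
  | b :: bs, v => (bif Nat.beq (v % 2) 1 then b else []) ++ vwd bs (v / 2)

/-- A linear map given by the images of the unit vectors. -/
def linGo (f : ℕ → ℕ) : ℕ → ℕ → ℕ → ℕ
  | 0, _, _ => 0
  | k + 1, l, v => Nat.xor (bif Nat.beq (v % 2) 1 then f l else 0) (linGo f k (l + 1) (v / 2))

/-- Multiplication of cosets. -/
def mulI (a b : ℕ) : ℕ := field mulTab (128 * a + b)

/-- Images of the unit vectors under a coset. -/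
def mtI (a l : ℕ) : ℕ := field mtTab (11 * a + l)

/-- Action of a coset on a vector. -/
def actV (a v : ℕ) : ℕ := linGo (mtI a) 11 0 v

/-- The vector in the product of a generator and a representative. -/
def relI (k a : ℕ) : ℕ := field relTab (3 * a + k)

/-- Images of the unit vectors under a generator. -/
def mgI (k l : ℕ) : ℕ := field mgTab (11 * k + l)

/-- Images of the clique. -/
def clI (a i : ℕ) : ℕ := field clTab (23 * a + i)

/-- All letters are valid and all base points are fixed. -/
def trivW (w : List ℕ) : Bool :=
  (w.all fun x => Nat.blt x 10) && Fi23Fi22.tbl.fixesBase (Fi23Ord.levels.map Level.pt).reverse w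

theorem trivW_spec {w : List ℕ} (h : trivW w = true) : evalW PresFi23.gens w = 1 := by
  rw [trivW, Bool.and_eq_true] at h
  exact Fi23Ord.eq_one h.1 h.2

theorem bws_length : bws.length = 11 := by decide +kernel

theorem bws_check : (bws.all fun b => bws.all fun c => trivW (b ++ c ++ b.reverse ++ c.reverse)) &&
    (bws.all fun b => trivW (b ++ b)) = true := by decide +kernel

theorem conj_check : ((List.range 3).all fun k => (List.range 11).all fun l =>
    trivW ((swd (genIdx k)).reverse ++ bws.getD l [] ++ swd (genIdx k) ++ (vwd bws (mgI k l)).reverse) &&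
      Nat.blt (mgI k l) 2048) = true := by decide +kernel

theorem par_check : (swd 0 == [] && (List.range 127).all fun i =>
    Nat.blt (field parTab (2 * (i + 1))) 3 && Nat.blt (field parTab (2 * (i + 1) + 1)) (i + 1) &&
      Nat.beq (mulI (genIdx (field parTab (2 * (i + 1)))) (field parTab (2 * (i + 1) + 1))) (i + 1)) = true := by
  decide +kernel

theorem mt_check : ((List.range 11).all fun l => Nat.beq (mtI 0 l) (2 ^ l) &&
    (List.range 127).all fun i => Nat.blt (mtI (i + 1) l) 2048 &&
      Nat.beq (mtI (i + 1) l) (linGo (mgI (field parTab (2 * (i + 1)))) 11 0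
        (mtI (field parTab (2 * (i + 1) + 1)) l))) = true := by decide +kernel

theorem mul_check : ((List.range 128).all fun a => (List.range 128).all fun b =>
    Nat.blt (mulI a b) 128 && (List.range 3).all fun k =>
      Nat.beq (mulI (mulI (genIdx k) a) b) (mulI (genIdx k) (mulI a b))) = true := by decide +kernel

theorem one_check : ((List.range 128).all fun b => Nat.beq (mulI 0 b) b && Nat.beq (mulI b 0) b) = true := by
  decide +kernel

theorem inv_check : ((List.range 3).all fun k => Nat.blt (genIdx k) 128 && Nat.blt (genInv k) 128 &&
    Nat.beq (mulI (genIdx k) (genInv k)) 0) = true := by decide +kernel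

theorem fix_check : (bws.all fun b => clique.all fun p => Nat.beq (Fi23Fi22.tbl.app b p) p) = true := by
  decide +kernel

theorem cl_check : ((List.range 128).all fun a => (List.range 23).all fun i =>
    Nat.beq (Fi23Fi22.tbl.app (swd a) (clique.getD i 0)) (clique.getD (clI a i) 0)) = true := by decide +kernel

theorem clique_check : (clique.all fun p => Nat.blt p Fi23Fi22.tbl.n) &&
    ((bws.all fun b => b.all fun x => Nat.blt x 10) && (List.range 128).all fun a => (swd a).all fun x => Nat.blt x 10) = true := by
  decide +kernel

theorem sep_check : ((List.range 128).all fun a => (List.range 128).all fun b => Nat.beq a b ||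
    (List.range 23).any fun i => !Nat.beq (clique.getD (clI a i) 0) (clique.getD (clI b i) 0)) = true := by
  decide +kernel

/-- Members of a bit set. -/
def members (W : ℕ) : List ℕ := (List.range 128).filter fun a => bit W a

/-- Add the translate of a set by an element. -/
def extend (W x : ℕ) : ℕ := (members W).foldl (fun s w => addBit s (mulI x w)) W

/-- The set is closed under conjugation by the generators. -/
def normalSet (W : ℕ) : Bool :=
  (List.range 3).all fun k => (members W).all fun w => bit W (mulI (mulI (genIdx k) w) (genInv k))

/-- Number of fixed vectors below a bound. -/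
def fixCount (mem : List ℕ) : ℕ → ℕ
  | 0 => 0
  | v + 1 => bif mem.all (fun w => Nat.beq (actV w v) v) then fixCount mem v + 1 else fixCount mem v

theorem subgroups_closed : (subgroups.any (fun W => Nat.beq W 1) && subgroups.all fun W => bit W 0 &&
    Nat.blt W (2 ^ 128) && (List.range 128).all fun x =>
      bit W x || !Nat.beq (mulI x x) 0 || !(members W).all (fun w => Nat.beq (mulI x w) (mulI w x)) ||
        subgroups.any fun V => Nat.beq V (extend W x)) = true := by decide +kernel

theorem subgroups_bound : (subgroups.all fun W => Nat.beq W 1 || !normalSet W ||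
    Nat.blt ((members W).length * fixCount (members W) 2048) 2048) = true := by decide +kernel

end Cfsg.Agent.Screen.CosetEnum.Fi23Sylow
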